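import Mathlib
import Cfsg.Prelude.Def_Classical
import Cfsg.Agent.Lib.Helper40.SpPrimeOrder
import Cfsg.Agent.Lib.Helper43.OrthCard

/-!
# Classes of elements of odd prime order in the orthogonal groups: package interface

Team project for S2673, S2674, S2675 (number of conjugacy classes of elements of odd prime order
`r ≠ p` in `GO_{2m+1}(q)`, `GO^+_{2m}(q)`, `GO^-_{2m}(q)`).  Every `Pkg...` below is a `Prop`; a
package is delivered as a theorem whose type is that `Prop`.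

Framework (helper40, symplectic case): `Factors S r b` (`S` = the monic irreducible factors of
`X ^ r - 1` other than `X - 1`, all of degree `b`), `chi S a k = (X - 1) ^ k * ∏ π ^ a π`,
`dual (RingHom.id F) f` (the reciprocal polynomial, normalised).
-/

set_option autoImplicit false

namespace Cfsg.Agent.Lib.Helper14.OCls

open Matrix Polynomial Cfsg.Agent.Lib.Helper40.PrimeOrderGL Cfsg.Agent.Lib.Helper40.DualPoly
  Cfsg.Agent.Lib.Helper43

universe u

/-- The binary form `z₁² + a z₁ z₂ + c z₂²` is anisotropic. -/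
def Aniso {F : Type u} [Field F] (a c : F) : Prop :=
  ∀ z₁ z₂ : F, z₁ ^ 2 + a * z₁ * z₂ + c * z₂ ^ 2 = 0 → z₁ = 0 ∧ z₂ = 0

/-! ## Leaves: linear algebra of isometries -/

/-- The characteristic polynomial of an isometry is self-dual. -/
def PkgDual : Prop :=
  ∀ {F : Type u} [Field F] {ι : Type} [Fintype ι] [DecidableEq ι]
    (Q : QuadraticForm F (ι → F)) (_ : (QuadraticMap.polarBilin Q).Nondegenerate)
    (g : Matrix ι ι F) (_ : ∀ v, Q (g *ᵥ v) = Q v),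
    dual (RingHom.id F) g.charpoly = g.charpoly

/-- Two isometries with `r`-th power one (`r` odd, invertible in `F`) and the same characteristic
polynomial are conjugate under an isometry. -/
def PkgConj : Prop :=
  ∀ {F : Type u} [Field F] [Fintype F] {ι : Type} [Fintype ι] [DecidableEq ι]
    (Q : QuadraticForm F (ι → F)) (_ : (QuadraticMap.polarBilin Q).Nondegenerate)
    (r : ℕ) (_ : Odd r) (_ : (r : F) ≠ 0) (g h : Matrix ι ι F)
    (_ : ∀ v, Q (g *ᵥ v) = Q v) (_ : ∀ v, Q (h *ᵥ v) = Q v) (_ : g ^ r = 1) (_ : h ^ r = 1)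
    (_ : g.charpoly = h.charpoly),
    ∃ c c' : Matrix ι ι F, c * c' = 1 ∧ (∀ v, Q (c *ᵥ v) = Q v) ∧ c * g = h * c

/-- Fixed point congruence: an isometry with `r`-th power one, `r` prime. -/
def PkgFree : Prop :=
  ∀ {F : Type u} [Field F] [Fintype F] {ι : Type} [Fintype ι] [DecidableEq ι]
    (Qf : (ι → F) → F) (g : Matrix ι ι F) (r : ℕ) (_ : r.Prime)
    (_ : ∀ v, Qf (g *ᵥ v) = Qf v) (_ : g ^ r = 1),
    (Nat.card {v : ι → F // Qf v = 0} : ℤ) ≡
      (Nat.card {v : ι → F // Qf v = 0 ∧ g *ᵥ v = v} : ℤ) [ZMOD (r : ℤ)]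

/-- Transport of an isometry along a similarity of forms. -/
def PkgTransport : Prop :=
  ∀ {F : Type u} [Field F] {κ ι : Type} [Fintype κ] [DecidableEq κ] [Fintype ι] [DecidableEq ι]
    (Q' : (κ → F) → F) (Qs : (ι → F) → F) (c : F) (φ : (κ → F) ≃ₗ[F] (ι → F))
    (_ : ∀ v, Qs (φ v) = c * Q' v) (M : Matrix κ κ F) (r : ℕ) (_ : M ^ r = 1)
    (_ : ∀ v, Q' (M *ᵥ v) = Q' v),
    ∃ g : Matrix ι ι F, g ^ r = 1 ∧ (∀ v, Qs (g *ᵥ v) = Qs v) ∧ g.charpoly = M.charpoly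

/-- A matrix of odd order prime to the characteristic with self-dual characteristic polynomial
and without the eigenvalue `1` preserves a quadratic form with non-degenerate polar form. -/
def PkgInvForm : Prop :=
  ∀ {F : Type u} [Field F] [Fintype F] {ι : Type} [Fintype ι] [DecidableEq ι]
    (M : Matrix ι ι F) (r : ℕ) (_ : Odd r) (_ : (r : F) ≠ 0) (_ : M ^ r = 1)
    (_ : dual (RingHom.id F) M.charpoly = M.charpoly) (_ : M.charpoly.eval 1 ≠ 0),
    ∃ Q : QuadraticForm F (ι → F), (QuadraticMap.polarBilin Q).Nondegenerate ∧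
      ∀ v, Q (M *ᵥ v) = Q v

/-! ## Leaves: quadratic forms over finite fields -/

/-- Anisotropic binary forms exist over every finite field. -/
def PkgAniso : Prop :=
  ∀ {F : Type u} [Field F] [Fintype F], ∃ a c : F, Aniso a c

/-- `q * #zeros` of the plus form in dimension `2m`. -/
def PkgZerosPlus : Prop :=
  ∀ {F : Type u} [Field F] [Fintype F] (m : ℕ),
    (Fintype.card F : ℤ) * (Nat.card {v : Fin m ⊕ Fin m → F // Cfsg.quadFormPlus m F v = 0} : ℤ) =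
      (Fintype.card F : ℤ) ^ (2 * m) +
        ((Fintype.card F : ℤ) ^ (m + 1) - (Fintype.card F : ℤ) ^ m)

/-- `q * #zeros` of the minus form in dimension `2m + 2`. -/
def PkgZerosMinus : Prop :=
  ∀ {F : Type u} [Field F] [Fintype F] (a c : F) (_ : Aniso a c) (m : ℕ),
    (Fintype.card F : ℤ) *
        (Nat.card {v : (Fin m ⊕ Fin m) ⊕ Fin 2 → F // Cfsg.quadFormMinus m F a c v = 0} : ℤ) =
      (Fintype.card F : ℤ) ^ (2 * (m + 1)) -
        ((Fintype.card F : ℤ) ^ (m + 2) - (Fintype.card F : ℤ) ^ (m + 1))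

/-- A quadratic form in at least three variables over a finite field has a non-trivial zero. -/
def PkgSing : Prop :=
  ∀ {F : Type u} [Field F] [Fintype F] {V : Type u} [AddCommGroup V] [Module F V]
    [FiniteDimensional F V] (Q : QuadraticForm F V) (_ : 3 ≤ Module.finrank F V),
    ∃ v : V, v ≠ 0 ∧ Q v = 0

/-- Splitting off a hyperbolic plane through a singular vector. -/
def PkgSplit : Prop :=
  ∀ {F : Type u} [Field F] {V : Type u} [AddCommGroup V] [Module F V]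
    [FiniteDimensional F V] (Q : QuadraticForm F V)
    (_ : (QuadraticMap.polarBilin Q).Nondegenerate) (e : V) (_ : e ≠ 0) (_ : Q e = 0),
    ∃ (W : Submodule F V) (φ : V ≃ₗ[F] (W × F × F)),
      (∀ v, hypExt (Q.comp W.subtype) (φ v) = Q v) ∧
        (QuadraticMap.polarBilin (Q.comp W.subtype)).Nondegenerate

/-- Anisotropic planes over a finite field are isometric to the standard one. -/
def PkgAnisoUnique : Prop :=
  ∀ {F : Type u} [Field F] [Fintype F] {V : Type u} [AddCommGroup V] [Module F V]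
    [FiniteDimensional F V] (Q : QuadraticForm F V)
    (_ : (QuadraticMap.polarBilin Q).Nondegenerate) (_ : Module.finrank F V = 2)
    (_ : ∀ v, Q v = 0 → v = 0) (a c : F) (_ : Aniso a c),
    ∃ φ : V ≃ₗ[F] ((Fin 0 ⊕ Fin 0) ⊕ Fin 2 → F), ∀ v, Cfsg.quadFormMinus 0 F a c (φ v) = Q v

/-- Classification in even dimension: plus or minus. -/
def ClassEven : Prop :=
  ∀ {F : Type u} [Field F] [Fintype F] {V : Type u} [AddCommGroup V] [Module F V]
    [FiniteDimensional F V] (Q : QuadraticForm F V)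
    (_ : (QuadraticMap.polarBilin Q).Nondegenerate) (m : ℕ) (_ : Module.finrank F V = 2 * m)
    (a c : F) (_ : Aniso a c),
    (∃ φ : V ≃ₗ[F] (Fin m ⊕ Fin m → F), ∀ v, Cfsg.quadFormPlus m F (φ v) = Q v) ∨
      (∃ m' : ℕ, m = m' + 1 ∧ ∃ φ : V ≃ₗ[F] ((Fin m' ⊕ Fin m') ⊕ Fin 2 → F),
        ∀ v, Cfsg.quadFormMinus m' F a c (φ v) = Q v)

def PkgClassEven : Prop := PkgSing.{u} → PkgSplit.{u} → PkgAnisoUnique.{u} → ClassEven.{u}

/-- Classification in odd dimension, odd characteristic: similar to the standard form. -/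
def ClassOdd : Prop :=
  ∀ {F : Type u} [Field F] [Fintype F] (_ : (2 : F) ≠ 0) {V : Type u} [AddCommGroup V]
    [Module F V] [FiniteDimensional F V] (Q : QuadraticForm F V)
    (_ : (QuadraticMap.polarBilin Q).Nondegenerate) (m : ℕ) (_ : Module.finrank F V = 2 * m + 1),
    ∃ (c : F) (φ : V ≃ₗ[F] (Unit ⊕ (Fin m ⊕ Fin m) → F)), c ≠ 0 ∧
      ∀ v, Cfsg.quadFormOdd m F (φ v) = c * Q v

def PkgClassOdd : Prop := PkgSing.{u} → PkgSplit.{u} → ClassOdd.{u}

/-! ## Leaves: arithmetic and counting -/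

/-- The type of a form with an isometry of order `r` is determined modulo `r` by the type of the
form on the fixed space (`b` = order of `q` modulo `r`, even). -/
def PkgArith : Prop :=
  ∀ (q r b s m k : ℕ) (_ : r.Prime) (_ : r ≠ 2) (_ : ¬ r ∣ q) (_ : b = orderOf (q : ZMod r))
    (_ : Even b) (_ : 2 * m = 2 * k + b * s) (e e' : ℤ) (_ : e = 1 ∨ e = -1)
    (_ : e' = 1 ∨ e' = -1) (Z Z' : ℤ)
    (_ : (q : ℤ) * Z = (q : ℤ) ^ (2 * m) + e * ((q : ℤ) ^ (m + 1) - (q : ℤ) ^ m))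
    (_ : (q : ℤ) * Z' = (q : ℤ) ^ (2 * k) + e' * ((q : ℤ) ^ (k + 1) - (q : ℤ) ^ k))
    (_ : Z ≡ Z' [ZMOD (r : ℤ)]), e = e' * (-1) ^ s

/-- Counting, odd dimension `2m + 1`. -/
def PkgCountOdd : Prop :=
  ∀ (T : Type u) [Fintype T] [DecidableEq T] (τ : T → T) (_ : ∀ x, τ (τ x) = x) (i m : ℕ)
    (_ : 0 < i) (_ : 0 < Fintype.card T)
    (_ : (Odd i ∧ ∀ x, τ x ≠ x) ∨ (Even i ∧ ∀ x, τ x = x)),
    Nat.card {a : T → ℕ // a ≠ 0 ∧ (∀ x, a (τ x) = a x) ∧ i * ∑ x, a x ≤ 2 * m + 1} =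
      if Odd i then Nat.choose (m / i + Fintype.card T / 2) (Fintype.card T / 2) - 1
      else Nat.choose ((2 * m + 1) / i + Fintype.card T) (Fintype.card T) - 1

/-- Counting, plus type in dimension `2m`. -/
def PkgCountPlus : Prop :=
  ∀ (T : Type u) [Fintype T] [DecidableEq T] (τ : T → T) (_ : ∀ x, τ (τ x) = x) (i m : ℕ)
    (_ : 0 < i) (_ : 1 ≤ m) (_ : 0 < Fintype.card T)
    (_ : (Odd i ∧ ∀ x, τ x ≠ x) ∨ (Even i ∧ ∀ x, τ x = x)),
    Nat.card {a : T → ℕ // a ≠ 0 ∧ (∀ x, a (τ x) = a x) ∧ i * ∑ x, a x ≤ 2 * m ∧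
        (Even i → i * ∑ x, a x = 2 * m → Even (∑ x, a x))} =
      if Odd i then Nat.choose (m / i + Fintype.card T / 2) (Fintype.card T / 2) - 1
      else Nat.choose (2 * m / i + Fintype.card T) (Fintype.card T) - 1 -
        (if i ∣ 2 * m ∧ Odd (2 * m / i) then
          Nat.choose (2 * m / i + Fintype.card T - 1) (Fintype.card T - 1) else 0)

/-- Counting, minus type in dimension `2m`. -/
def PkgCountMinus : Prop :=
  ∀ (T : Type u) [Fintype T] [DecidableEq T] (τ : T → T) (_ : ∀ x, τ (τ x) = x) (i m : ℕ)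
    (_ : 0 < i) (_ : 1 ≤ m) (_ : 0 < Fintype.card T)
    (_ : (Odd i ∧ ∀ x, τ x ≠ x) ∨ (Even i ∧ ∀ x, τ x = x)),
    Nat.card {a : T → ℕ // a ≠ 0 ∧ (∀ x, a (τ x) = a x) ∧ i * ∑ x, a x ≤ 2 * m ∧
        (i * ∑ x, a x = 2 * m → Even i ∧ Odd (∑ x, a x))} =
      if Odd i then Nat.choose (m / i + Fintype.card T / 2) (Fintype.card T / 2) - 1 -
        (if i ∣ m then Nat.choose (m / i + Fintype.card T / 2 - 1) (Fintype.card T / 2 - 1)
          else 0)
      else Nat.choose (2 * m / i + Fintype.card T) (Fintype.card T) - 1 -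
        (if i ∣ 2 * m ∧ Even (2 * m / i) then
          Nat.choose (2 * m / i + Fintype.card T - 1) (Fintype.card T - 1) else 0)

/-! ## Necessity -/

/-- Minus type, no factor self-dual (`b` odd): an isometry with `r`-th power one fixes a
non-zero vector. -/
def PkgOddMinus : Prop :=
  ∀ {F : Type u} [Field F] [Fintype F] (S : Finset F[X]) (r b : ℕ) (_ : Factors S r b)
    (_ : r.Prime) (_ : (r : F) ≠ 0) (_ : ∀ π ∈ S, dual (RingHom.id F) π ≠ π)
    (m : ℕ) (a c : F) (_ : Aniso a c)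
    (g : Matrix ((Fin m ⊕ Fin m) ⊕ Fin 2) ((Fin m ⊕ Fin m) ⊕ Fin 2) F)
    (_ : ∀ v, Cfsg.quadFormMinus m F a c (g *ᵥ v) = Cfsg.quadFormMinus m F a c v)
    (_ : g ^ r = 1), ∃ v, v ≠ 0 ∧ g *ᵥ v = v

/-! ## Existence -/

/-- `b` odd (no factor self-dual): the hyperbolic double `diag(B, B⁻ᵀ)`. -/
def PkgExOddB : Prop :=
  ∀ {F : Type u} [Field F] [Fintype F] [DecidableEq F] (p : ℕ) [Fact p.Prime] [CharP F p]
    (S : Finset F[X]) (r b : ℕ) (_ : Factors S r b) (_ : r.Prime) (_ : (r : F) ≠ 0)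
    (dg : S → S) (_ : ∀ π : S, (dg π : F[X]) = dual (RingHom.id F) π.1) (_ : ∀ π, dg π ≠ π)
    (m : ℕ) (a : S → ℕ) (_ : ∀ π, a (dg π) = a π) (_ : b * ∑ π, a π ≤ 2 * m),
    ∃ g : Matrix (Fin m ⊕ Fin m) (Fin m ⊕ Fin m) F, g ^ r = 1 ∧
      (∀ v, Cfsg.quadFormPlus m F (g *ᵥ v) = Cfsg.quadFormPlus m F v) ∧
      g.charpoly = chi S a (2 * m - b * ∑ π, a π)

/-- All factors self-dual (`b` even): an invariant form on `F^(b Σ a) ⊕ F^κ` extending a given
form on the fixed space `F^κ`. -/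
def ExCore : Prop :=
  ∀ {F : Type u} [Field F] [Fintype F] [DecidableEq F] (p : ℕ) [Fact p.Prime] [CharP F p]
    (S : Finset F[X]) (r b : ℕ) (_ : Factors S r b) (_ : r.Prime) (_ : r ≠ 2) (_ : (r : F) ≠ 0)
    (_ : ∀ π ∈ S, dual (RingHom.id F) π = π) (a : S → ℕ)
    {κ : Type} [Fintype κ] [DecidableEq κ] (Q₂ : QuadraticForm F (κ → F))
    (_ : (QuadraticMap.polarBilin Q₂).Nondegenerate),
    ∃ (Q' : QuadraticForm F (Fin (b * ∑ π, a π) ⊕ κ → F))
      (M : Matrix (Fin (b * ∑ π, a π) ⊕ κ) (Fin (b * ∑ π, a π) ⊕ κ) F),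
      (QuadraticMap.polarBilin Q').Nondegenerate ∧ M ^ r = 1 ∧ (∀ v, Q' (M *ᵥ v) = Q' v) ∧
        M.charpoly = chi S a (Fintype.card κ) ∧
        Nat.card {v : Fin (b * ∑ π, a π) ⊕ κ → F // Q' v = 0 ∧ M *ᵥ v = v} =
          Nat.card {w : κ → F // Q₂ w = 0}

def PkgExCore : Prop := PkgInvForm.{u} → ExCore.{u}

/-- `b` even, target the plus form. -/
def ExEvenPlus : Prop :=
  ∀ {F : Type u} [Field F] [Fintype F] [DecidableEq F] (p : ℕ) [Fact p.Prime] [CharP F p]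
    (S : Finset F[X]) (r b : ℕ) (_ : Factors S r b) (_ : r.Prime) (_ : r ≠ 2) (_ : (r : F) ≠ 0)
    (_ : b = orderOf ((Fintype.card F : ℕ) : ZMod r)) (_ : Even b)
    (_ : ∀ π ∈ S, dual (RingHom.id F) π = π) (m : ℕ) (a : S → ℕ)
    (_ : b * ∑ π, a π ≤ 2 * m) (_ : b * ∑ π, a π = 2 * m → Even (∑ π, a π)),
    ∃ g : Matrix (Fin m ⊕ Fin m) (Fin m ⊕ Fin m) F, g ^ r = 1 ∧
      (∀ v, Cfsg.quadFormPlus m F (g *ᵥ v) = Cfsg.quadFormPlus m F v) ∧
      g.charpoly = chi S a (2 * m - b * ∑ π, a π)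

def PkgExEvenPlus : Prop :=
  ExCore.{u} → ClassEven.{u} → PkgTransport.{u} → PkgFree.{u} → PkgArith → PkgZerosPlus.{u} →
    PkgZerosMinus.{u} → PkgAniso.{u} → ExEvenPlus.{u}

/-- `b` even, target the minus form (dimension `2m + 2`). -/
def ExEvenMinus : Prop :=
  ∀ {F : Type u} [Field F] [Fintype F] [DecidableEq F] (p : ℕ) [Fact p.Prime] [CharP F p]
    (S : Finset F[X]) (r b : ℕ) (_ : Factors S r b) (_ : r.Prime) (_ : r ≠ 2) (_ : (r : F) ≠ 0)
    (_ : b = orderOf ((Fintype.card F : ℕ) : ZMod r)) (_ : Even b)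
    (_ : ∀ π ∈ S, dual (RingHom.id F) π = π) (m : ℕ) (c d : F) (_ : Aniso c d) (a : S → ℕ)
    (_ : b * ∑ π, a π ≤ 2 * m + 2) (_ : b * ∑ π, a π = 2 * m + 2 → Odd (∑ π, a π)),
    ∃ g : Matrix ((Fin m ⊕ Fin m) ⊕ Fin 2) ((Fin m ⊕ Fin m) ⊕ Fin 2) F, g ^ r = 1 ∧
      (∀ v, Cfsg.quadFormMinus m F c d (g *ᵥ v) = Cfsg.quadFormMinus m F c d v) ∧
      g.charpoly = chi S a (2 * m + 2 - b * ∑ π, a π)

def PkgExEvenMinus : Prop :=
  ExCore.{u} → ClassEven.{u} → PkgTransport.{u} → PkgFree.{u} → PkgArith → PkgZerosPlus.{u} →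
    PkgZerosMinus.{u} → ExEvenMinus.{u}

/-- `b` even, target the odd-dimensional form (`q` odd). -/
def ExEvenOdd : Prop :=
  ∀ {F : Type u} [Field F] [Fintype F] [DecidableEq F] (p : ℕ) [Fact p.Prime] [CharP F p]
    (_ : (2 : F) ≠ 0)
    (S : Finset F[X]) (r b : ℕ) (_ : Factors S r b) (_ : r.Prime) (_ : r ≠ 2) (_ : (r : F) ≠ 0)
    (_ : ∀ π ∈ S, dual (RingHom.id F) π = π) (m : ℕ) (a : S → ℕ)
    (_ : b * ∑ π, a π ≤ 2 * m + 1),
    ∃ g : Matrix (Unit ⊕ (Fin m ⊕ Fin m)) (Unit ⊕ (Fin m ⊕ Fin m)) F, g ^ r = 1 ∧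
      (∀ v, Cfsg.quadFormOdd m F (g *ᵥ v) = Cfsg.quadFormOdd m F v) ∧
      g.charpoly = chi S a (2 * m + 1 - b * ∑ π, a π)

def PkgExEvenOdd : Prop := ExCore.{u} → ClassOdd.{u} → PkgTransport.{u} → ExEvenOdd.{u}

end Cfsg.Agent.Lib.Helper14.OCls
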