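import Mathlib
import Cfsg.Agent.Lib.Helper14.OCls.Defs
import Cfsg.Agent.Lib.Helper14.Isom

/-!
# Classes of elements of odd prime order in an isometry group: the generic count

`card_classes_O_generic`: if the characteristic polynomials of the elements of order `r` of the
isometry group of `Qf` are exactly the `chi S a k` with `a` admissible, and the characteristic
polynomial determines the class, then the classes of elements of order `r` correspond to the
admissible multiplicity functions.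
-/

set_option autoImplicit false

namespace Cfsg.Agent.Lib.Helper14.OCls

open Matrix Polynomial Cfsg.Agent.Lib.Helper40.PrimeOrderGL Cfsg.Agent.Lib.Helper40.DualPoly
  Cfsg.Agent.Lib.Helper40.SpExist Cfsg.Agent.Lib.Helper40.GUPrimeOrder

universe u

section generic

variable {F : Type u} [Field F] [Fintype F] [DecidableEq F] {ι : Type} [Fintype ι] [DecidableEq ι]

/-- A matrix with `r`-th power one as an element of the general linear group. -/
def glOfPow (g : Matrix ι ι F) (r : ℕ) (hr : 0 < r) (hg : g ^ r = 1) : GL ι F :=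
  ⟨g, g ^ (r - 1), by rw [← pow_succ', Nat.sub_add_cancel hr, hg],
    by rw [← pow_succ, Nat.sub_add_cancel hr, hg]⟩

theorem glOfPow_val (g : Matrix ι ι F) (r : ℕ) (hr : 0 < r) (hg : g ^ r = 1) :
    ((glOfPow g r hr hg : GL ι F) : Matrix ι ι F) = g := rfl

theorem glOfPow_pow (g : Matrix ι ι F) (r : ℕ) (hr : 0 < r) (hg : g ^ r = 1) :
    (glOfPow g r hr hg) ^ r = 1 := by
  apply Units.ext
  rw [Units.val_pow_eq_pow_val]
  exact hg

theorem card_classes_O_generic (Qf : (ι → F) → F)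
    {S : Finset F[X]} {r b : ℕ} (hS : Factors S r b) (hr : r.Prime) (hrF : (r : F) ≠ 0)
    (n : ℕ) (hn : Fintype.card ι = n)
    (dg : S → S) (hdg : ∀ π : S, (dg π : F[X]) = dual (RingHom.id F) π.1)
    (Adm : (S → ℕ) → Prop)
    (hdual : ∀ g : Matrix ι ι F, (∀ v, Qf (g *ᵥ v) = Qf v) →
      dual (RingHom.id F) g.charpoly = g.charpoly)
    (hconj : ∀ g h : Matrix ι ι F, (∀ v, Qf (g *ᵥ v) = Qf v) → (∀ v, Qf (h *ᵥ v) = Qf v) →
      g ^ r = 1 → h ^ r = 1 → g.charpoly = h.charpoly →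
      ∃ c c' : Matrix ι ι F, c * c' = 1 ∧ (∀ v, Qf (c *ᵥ v) = Qf v) ∧ c * g = h * c)
    (hex : ∀ a : S → ℕ, (∀ π, a (dg π) = a π) → b * ∑ π, a π ≤ n → Adm a →
      ∃ g : Matrix ι ι F, g ^ r = 1 ∧ (∀ v, Qf (g *ᵥ v) = Qf v) ∧
        g.charpoly = chi S a (n - b * ∑ π, a π))
    (hnec : ∀ g : Matrix ι ι F, (∀ v, Qf (g *ᵥ v) = Qf v) → g ^ r = 1 → ∀ a : S → ℕ,
      b * ∑ π, a π ≤ n → g.charpoly = chi S a (n - b * ∑ π, a π) → Adm a) :
    Nat.card {C : ConjClasses ↥(Cfsg.isometryGroup F Qf) //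
      ∃ g : ↥(Cfsg.isometryGroup F Qf), ConjClasses.mk g = C ∧ orderOf g = r} =
      Nat.card {a : S → ℕ // a ≠ 0 ∧ (∀ π, a (dg π) = a π) ∧ b * ∑ π, a π ≤ n ∧ Adm a} := by
  classical
  have : Fact r.Prime := ⟨hr⟩
  have hdd : ∀ π, dg (dg π) = π := by
    intro π
    apply Subtype.ext
    rw [hdg, hdg, dual_dual (RingHom.id F) (fun _ => rfl) π.1 (hS.monic π π.2)
      (Factors.coeff_zero_ne hS hr.pos π π.2)]
  have hexg : ∀ a : {a : S → ℕ // a ≠ 0 ∧ (∀ π, a (dg π) = a π) ∧ b * ∑ π, a π ≤ n ∧ Adm a},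
      ∃ g : ↥(Cfsg.isometryGroup F Qf), g ^ r = 1 ∧
        ((g : GL ι F) : Matrix ι ι F).charpoly = chi S a.1 (n - b * ∑ π, a.1 π) := by
    intro a
    obtain ⟨g, hgr, hgQ, hgc⟩ := hex a.1 a.2.2.1 a.2.2.2.1 a.2.2.2.2
    refine ⟨⟨glOfPow g r hr.pos hgr, ?_⟩, ?_, hgc⟩
    · rw [mem_isometryGroup_iff]
      exact hgQ
    · apply Subtype.ext
      rw [SubmonoidClass.coe_pow]
      exact glOfPow_pow g r hr.pos hgr
  choose rep hrep1 hrep2 using hexg
  let f : {a : S → ℕ // a ≠ 0 ∧ (∀ π, a (dg π) = a π) ∧ b * ∑ π, a π ≤ n ∧ Adm a} →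
      ConjClasses ↥(Cfsg.isometryGroup F Qf) := fun a => ConjClasses.mk (rep a)
  have hmat : ∀ g : ↥(Cfsg.isometryGroup F Qf), g ^ r = 1 →
      ((g : GL ι F) : Matrix ι ι F) ^ r = 1 := by
    intro g hg
    have h2 := congrArg (fun x : ↥(Cfsg.isometryGroup F Qf) => ((x : GL ι F) : Matrix ι ι F)) hg
    simpa using h2
  have hQ : ∀ g : ↥(Cfsg.isometryGroup F Qf), ∀ v,
      Qf (((g : GL ι F) : Matrix ι ι F) *ᵥ v) = Qf v :=
    fun g => (mem_isometryGroup_iff Qf g.1).mp g.2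
  have hconjc : ∀ g h : ↥(Cfsg.isometryGroup F Qf), IsConj g h →
      ((g : GL ι F) : Matrix ι ι F).charpoly = ((h : GL ι F) : Matrix ι ι F).charpoly := by
    intro x y hxy
    obtain ⟨c, rfl⟩ := isConj_iff.1 hxy
    symm
    show (((c : GL ι F) : Matrix ι ι F) * ((x : GL ι F) : Matrix ι ι F) *
      (((c⁻¹ : ↥(Cfsg.isometryGroup F Qf)) : GL ι F) : Matrix ι ι F)).charpoly = _
    rw [Matrix.charpoly_mul_comm, ← mul_assoc]
    have h1 : (((c⁻¹ : ↥(Cfsg.isometryGroup F Qf)) : GL ι F) : Matrix ι ι F) *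
        ((c : GL ι F) : Matrix ι ι F) = 1 := by
      have h2 := congrArg (fun x : ↥(Cfsg.isometryGroup F Qf) => ((x : GL ι F) : Matrix ι ι F))
        (inv_mul_cancel c)
      simpa using h2
    rw [h1, one_mul]
  have hfinj : Function.Injective f := by
    intro a a' hab
    have h1 := hconjc _ _ (ConjClasses.mk_eq_mk_iff_isConj.1 hab)
    rw [hrep2, hrep2] at h1
    exact Subtype.ext (chi_inj hS _ _ _ _ h1)
  have hrange : ∀ C, C ∈ Set.range f ↔
      ∃ g : ↥(Cfsg.isometryGroup F Qf), ConjClasses.mk g = C ∧ orderOf g = r := by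
    intro C
    constructor
    · rintro ⟨a, rfl⟩
      refine ⟨rep a, rfl, ?_⟩
      apply orderOf_eq_prime (hrep1 a)
      intro h1
      apply a.2.1
      have h2 := hrep2 a
      rw [h1] at h2
      have h3 : (((1 : ↥(Cfsg.isometryGroup F Qf)) : GL ι F) : Matrix ι ι F).charpoly =
          chi S (0 : S → ℕ) n := by
        show (1 : Matrix ι ι F).charpoly = _
        rw [Matrix.charpoly_one, hn]
        unfold chi
        simp
      rw [h3] at h2
      exact (chi_inj hS _ _ _ _ h2).symm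
    · rintro ⟨g, rfl, hg⟩
      have hgr : g ^ r = 1 := by
        rw [← hg]
        exact pow_orderOf_eq_one g
      have hg1 : g ≠ 1 := by
        rintro rfl
        rw [orderOf_one] at hg
        exact hr.one_lt.ne hg
      obtain ⟨a, ha, hχ⟩ := charpoly_eq_chi' hS ((g : GL ι F) : Matrix ι ι F) (hmat g hgr) n hn
      have ha0 : a ≠ 0 := by
        rintro rfl
        apply hg1
        apply Subtype.ext
        apply Units.ext
        apply eq_one_of_charpoly' ((g : GL ι F) : Matrix ι ι F) r hrF (hmat g hgr) n hn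
        rw [hχ]
        simp [chi]
      have hinv : ∀ π, a (dg π) = a π := by
        have h1 := hdual _ (hQ g)
        rw [hχ, dual_chi (RingHom.id F) dg hdd hdg] at h1
        have h2 := chi_inj hS _ _ _ _ h1
        intro π
        exact congrFun h2 π
      have hadm : Adm a := hnec _ (hQ g) (hmat g hgr) a ha hχ
      refine ⟨⟨a, ha0, hinv, ha, hadm⟩, ?_⟩
      show ConjClasses.mk (rep ⟨a, ha0, hinv, ha, hadm⟩) = ConjClasses.mk g
      rw [ConjClasses.mk_eq_mk_iff_isConj]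
      obtain ⟨c, c', hcc', hcQ, hcg⟩ := hconj _ _ (hQ (rep ⟨a, ha0, hinv, ha, hadm⟩)) (hQ g)
        (hmat _ (hrep1 _)) (hmat g hgr) (by rw [hrep2, hχ])
      have hc'c : c' * c = 1 := mul_eq_one_comm.mp hcc'
      rw [isConj_iff]
      refine ⟨⟨⟨c, c', hcc', hc'c⟩, ?_⟩, ?_⟩
      · rw [mem_isometryGroup_iff]
        exact hcQ
      · apply Subtype.ext
        apply Units.ext
        show c * ((rep ⟨a, ha0, hinv, ha, hadm⟩ : GL ι F) : Matrix ι ι F) *
          (((⟨⟨c, c', hcc', hc'c⟩, _⟩ : ↥(Cfsg.isometryGroup F Qf))⁻¹ :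
            ↥(Cfsg.isometryGroup F Qf)) : GL ι F).1 = ((g : GL ι F) : Matrix ι ι F)
        have h5 : ((((⟨⟨c, c', hcc', hc'c⟩, by rw [mem_isometryGroup_iff]; exact hcQ⟩ :
            ↥(Cfsg.isometryGroup F Qf))⁻¹ : ↥(Cfsg.isometryGroup F Qf)) : GL ι F) :
            Matrix ι ι F) = c' := rfl
        rw [h5, hcg, mul_assoc, hcc', mul_one]
  rw [← Nat.card_range_of_injective hfinj]
  exact Nat.card_congr (Equiv.subtypeEquivRight (fun C => (hrange C).symm))

end generic

end Cfsg.Agent.Lib.Helper14.OCls
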