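import Mathlib
import Cfsg.Agent.Lib.Helper14.OCls.Generic

/-!
# Set-up for the class counts in orthogonal groups: the factors of `X ^ r - 1`, duality, and
auxiliary facts on `chi`.
-/

set_option autoImplicit false

namespace Cfsg.Agent.Lib.Helper14.OCls

open Matrix Polynomial Cfsg.Agent.Lib.Helper40.PrimeOrderGL Cfsg.Agent.Lib.Helper40.DualPoly
  Cfsg.Agent.Lib.Helper40.SpExist Cfsg.Agent.Lib.Helper40.GUPrimeOrder

universe u

section setup

variable {F : Type u} [Field F] [Fintype F] [DecidableEq F]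

/-- The factors of `X ^ r - 1` over `F`, with the duality involution and its dichotomy. -/
theorem exists_setup {p q : ℕ} [Fact p.Prime] [CharP F p] (hF : Fintype.card F = q)
    (r i t : ℕ) (hr : r.Prime) (hr2 : r ≠ 2) (hrp : r ≠ p) (hi : i = orderOf (q : ZMod r))
    (ht : t * i = r - 1) :
    ∃ S : Finset F[X], Factors S r i ∧ S.card = t ∧ (r : F) ≠ 0 ∧ ¬ r ∣ q ∧ 0 < i ∧ 0 < t ∧
      ∃ dg : S → S, (∀ π : S, (dg π : F[X]) = dual (RingHom.id F) π.1) ∧
        (∀ π, dg (dg π) = π) ∧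
        ((Odd i ∧ ∀ π, dg π ≠ π) ∨ (Even i ∧ ∀ π, dg π = π)) ∧
        (Odd i → ∀ π ∈ S, dual (RingHom.id F) π ≠ π) ∧
        (Even i → ∀ π ∈ S, dual (RingHom.id F) π = π) := by
  classical
  have hp : p.Prime := Fact.out
  obtain ⟨f, -, hf⟩ := FiniteField.card F p
  have hrq : ¬ r ∣ q := by
    rw [← hF, hf]
    intro h
    exact hrp ((Nat.prime_dvd_prime_iff_eq hr hp).1 (hr.dvd_of_dvd_pow h))
  obtain ⟨S, hS, hScard, hrF⟩ := exists_factors hF r i t hr hrp hi ht
  have hσ2 : ∀ a : F, (RingHom.id F) ((RingHom.id F) a) = a := fun _ => rfl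
  have hmemS : ∀ π : S, dual (RingHom.id F) π.1 ∈ S := by
    intro π
    have h0 := Factors.coeff_zero_ne hS hr.pos π π.2
    have hmon := monic_dual (RingHom.id F) π.1 h0
    have hirr := irreducible_dual (RingHom.id F) hσ2 π.1 (hS.monic π π.2) h0 (hS.irred π π.2)
    have hdvd : dual (RingHom.id F) π.1 ∣ X ^ r - 1 := by
      obtain ⟨c, hc⟩ := hS.dvd π π.2
      have h1 := congrArg (dual (RingHom.id F)) hc
      rw [dual_X_pow_sub_one (RingHom.id F) r hr.pos, dual_mul] at h1
      exact ⟨_, h1⟩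
    rcases hS.cover _ hmon hirr hdvd with h | h
    · exfalso
      have h2 := dual_dual (RingHom.id F) hσ2 π.1 (hS.monic π π.2) h0
      rw [h, dual_X_sub_one] at h2
      exact hS.notMem (h2 ▸ π.2)
    · exact h
  obtain ⟨dg, hdg⟩ : ∃ dg : S → S, ∀ π : S, (dg π : F[X]) = dual (RingHom.id F) π.1 :=
    ⟨fun π => ⟨dual (RingHom.id F) π.1, hmemS π⟩, fun π => rfl⟩
  have hdd : ∀ π, dg (dg π) = π := by
    intro π
    apply Subtype.ext
    rw [hdg, hdg, dual_dual (RingHom.id F) hσ2 π.1 (hS.monic π π.2)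
      (Factors.coeff_zero_ne hS hr.pos π π.2)]
  have hcrit : ∀ π : S, dual (RingHom.id F) π.1 = π.1 ↔ Even i := by
    intro π
    rw [dual_eq_self_iff_exists (RingHom.id F) p hσ2 1 0 (pow_zero p).symm
      (fun x => (pow_one x).symm) r hr π.1 (hS.monic π π.2) (hS.irred π π.2) (hS.dvd π π.2)
      (fun h => hS.notMem (h ▸ π.2)), hF, hi]
    exact exists_dvd_one_add_pow_iff r hr hr2 q hrq
  have hi0 : 0 < i := by
    rcases Nat.eq_zero_or_pos i with h | h
    · rw [h, mul_zero] at ht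
      have := hr.two_le
      omega
    · exact h
  have ht0 : 0 < t := by
    rcases Nat.eq_zero_or_pos t with h | h
    · rw [h, zero_mul] at ht
      have := hr.two_le
      omega
    · exact h
  refine ⟨S, hS, hScard, hrF, hrq, hi0, ht0, dg, hdg, hdd, ?_, ?_, ?_⟩
  · rcases Nat.even_or_odd i with he | ho
    · right
      exact ⟨he, fun π => Subtype.ext (by rw [hdg]; exact (hcrit π).mpr he)⟩
    · left
      refine ⟨ho, fun π h => ?_⟩
      exact (Nat.not_even_iff_odd.mpr ho) ((hcrit π).mp (by rw [← hdg, h]))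
  · intro ho π hπ h
    exact (Nat.not_even_iff_odd.mpr ho) ((hcrit ⟨π, hπ⟩).mp h)
  · intro he π hπ
    exact (hcrit ⟨π, hπ⟩).mpr he

end setup

section chi

variable {F : Type u} [Field F] [Fintype F] [DecidableEq F] {S : Finset F[X]} {r b : ℕ}

theorem chi_mul_pow (a : S → ℕ) (k j : ℕ) :
    chi S a k * (X - C 1) ^ j = chi S a (k + j) := by
  unfold chi
  rw [pow_add]
  ring

theorem pow_mul_chi (a : S → ℕ) (k j : ℕ) :
    (X - C 1) ^ j * chi S a k = chi S a (k + j) := by
  rw [mul_comm, chi_mul_pow]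

theorem chi_eval_one_ne (hS : Factors S r b) (a : S → ℕ) : (chi S a 0).eval 1 ≠ 0 := by
  unfold chi
  rw [pow_zero, one_mul, eval_prod]
  apply Finset.prod_ne_zero_iff.mpr
  intro π _
  rw [eval_pow]
  exact pow_ne_zero _ (eval_one_ne hS π.1 π.2)

variable {ι : Type} [Fintype ι] [DecidableEq ι]

/-- A matrix whose characteristic polynomial is `chi S a 0` has no non-zero fixed vector. -/
theorem no_fixed_of_chi (hS : Factors S r b) (a : S → ℕ) (g : Matrix ι ι F)
    (hg : g.charpoly = chi S a 0) (v : ι → F) (hv : g *ᵥ v = v) : v = 0 := by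
  by_contra hv0
  have h1 : (g.charpoly).eval 1 = 0 := by
    rw [Matrix.eval_charpoly]
    apply Matrix.exists_mulVec_eq_zero_iff.mp
    refine ⟨v, hv0, ?_⟩
    rw [Matrix.sub_mulVec, hv]
    simp
  rw [hg] at h1
  exact chi_eval_one_ne hS a h1

end chi

end Cfsg.Agent.Lib.Helper14.OCls
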