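import Mathlib
import Cfsg.Agent.Lib.Helper14.OCls.Setup
import Cfsg.Agent.Lib.Helper14.Forms
import Cfsg.Agent.Lib.Helper44.Char2Forms

/-!
# Class counts of elements of odd prime order in the orthogonal groups, from the packages

`card_classes_plus`, `card_classes_minus`, `card_classes_odd`: the statements S2674, S2675, S2673
from the package propositions of `OCls.Defs`.
-/

set_option autoImplicit false

namespace Cfsg.Agent.Lib.Helper14.OCls

open Matrix Polynomial Cfsg.Agent.Lib.Helper40.PrimeOrderGL Cfsg.Agent.Lib.Helper40.DualPoly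
  Cfsg.Agent.Lib.Helper40.SpExist Cfsg.Agent.Lib.Helper40.GUPrimeOrder Cfsg.Agent.Lib.Helper14

universe u

section aux

theorem even_sum_of_invol {T : Type*} [Fintype T] [DecidableEq T] (τ : T → T)
    (hτ2 : ∀ x, τ (τ x) = x) (hτ : ∀ x, τ x ≠ x) (a : T → ℕ) (ha : ∀ x, a (τ x) = a x) :
    Even (∑ x, a x) := by
  classical
  obtain ⟨P, hP⟩ : ∃ P : T → Prop, ∀ x, P (τ x) ↔ ¬ P x := by
    refine ⟨fun x => Fintype.equivFin T x < Fintype.equivFin T (τ x), ?_⟩
    intro x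
    simp only [hτ2]
    have hne : Fintype.equivFin T (τ x) ≠ Fintype.equivFin T x :=
      fun h => hτ x ((Fintype.equivFin T).injective h)
    constructor
    · intro h1 h2
      exact absurd (lt_trans h1 h2) (lt_irrefl _)
    · intro h1
      exact lt_of_le_of_ne (not_lt.mp h1) hne
  rw [sum_invol τ hτ2 P hP a ha]
  exact even_two_mul _

variable {F : Type u} [Field F] {ι : Type} [Fintype ι] [DecidableEq ι]

theorem card_fixed_eq_one (Qf : (ι → F) → F) (h0 : Qf 0 = 0) (g : Matrix ι ι F)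
    (hfix : ∀ v, g *ᵥ v = v → v = 0) :
    Nat.card {v : ι → F // Qf v = 0 ∧ g *ᵥ v = v} = 1 := by
  rw [Nat.card_eq_one_iff_unique]
  refine ⟨⟨fun x y => ?_⟩, ⟨⟨0, h0, Matrix.mulVec_zero g⟩⟩⟩
  apply Subtype.ext
  rw [hfix x.1 x.2.2, hfix y.1 y.2.2]

/-- Extension of a plus-type isometry by the identity on the anisotropic plane. -/
theorem minus_ext (k : ℕ) (a c : F) (g₁ : Matrix (Fin k ⊕ Fin k) (Fin k ⊕ Fin k) F) (r : ℕ)
    (hg₁ : g₁ ^ r = 1)
    (hQ : ∀ v, Cfsg.quadFormPlus k F (g₁ *ᵥ v) = Cfsg.quadFormPlus k F v) :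
    ∃ g : Matrix ((Fin k ⊕ Fin k) ⊕ Fin 2) ((Fin k ⊕ Fin k) ⊕ Fin 2) F, g ^ r = 1 ∧
      (∀ v, Cfsg.quadFormMinus k F a c (g *ᵥ v) = Cfsg.quadFormMinus k F a c v) ∧
      g.charpoly = g₁.charpoly * (X - C 1) ^ 2 := by
  refine ⟨Matrix.fromBlocks g₁ 0 0 1, ?_, ?_, ?_⟩
  · rw [Matrix.fromBlocks_diagonal_pow, hg₁, one_pow, Matrix.fromBlocks_one]
  · intro v
    have hsplit : ∀ w : (Fin k ⊕ Fin k) ⊕ Fin 2 → F, Cfsg.quadFormMinus k F a c w =
        Cfsg.quadFormPlus k F (w ∘ Sum.inl) +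
          (w (.inr 0) ^ 2 + a * w (.inr 0) * w (.inr 1) + c * w (.inr 1) ^ 2) := fun w => rfl
    obtain ⟨x, y, rfl⟩ : ∃ x y, v = Sum.elim x y :=
      ⟨v ∘ Sum.inl, v ∘ Sum.inr, (Sum.elim_comp_inl_inr v).symm⟩
    rw [Matrix.fromBlocks_mulVec, hsplit, hsplit]
    simp only [Matrix.zero_mulVec, add_zero, zero_add, Matrix.one_mulVec, Sum.elim_comp_inl,
      Sum.elim_inr]
    rw [hQ]
    rfl
  · rw [Matrix.charpoly_fromBlocks_zero₁₂, Matrix.charpoly_one]
    simp

/-- Extension of a plus-type isometry by the identity on the first coordinate. -/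
theorem odd_ext (k : ℕ) (g₁ : Matrix (Fin k ⊕ Fin k) (Fin k ⊕ Fin k) F) (r : ℕ)
    (hg₁ : g₁ ^ r = 1)
    (hQ : ∀ v, Cfsg.quadFormPlus k F (g₁ *ᵥ v) = Cfsg.quadFormPlus k F v) :
    ∃ g : Matrix (Unit ⊕ (Fin k ⊕ Fin k)) (Unit ⊕ (Fin k ⊕ Fin k)) F, g ^ r = 1 ∧
      (∀ v, Cfsg.quadFormOdd k F (g *ᵥ v) = Cfsg.quadFormOdd k F v) ∧
      g.charpoly = (X - C 1) ^ 1 * g₁.charpoly := by
  refine ⟨Matrix.fromBlocks 1 0 0 g₁, ?_, ?_, ?_⟩
  · rw [Matrix.fromBlocks_diagonal_pow, hg₁, one_pow, Matrix.fromBlocks_one]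
  · intro v
    have hsplit : ∀ w : Unit ⊕ (Fin k ⊕ Fin k) → F, Cfsg.quadFormOdd k F w =
        w (.inl ()) ^ 2 + Cfsg.quadFormPlus k F (w ∘ Sum.inr) := fun w => rfl
    obtain ⟨x, y, rfl⟩ : ∃ x y, v = Sum.elim x y :=
      ⟨v ∘ Sum.inl, v ∘ Sum.inr, (Sum.elim_comp_inl_inr v).symm⟩
    rw [Matrix.fromBlocks_mulVec, hsplit, hsplit]
    simp only [Matrix.zero_mulVec, add_zero, zero_add, Matrix.one_mulVec, Sum.elim_comp_inr,
      Sum.elim_inl]
    rw [hQ]
    rfl
  · rw [Matrix.charpoly_fromBlocks_zero₁₂, Matrix.charpoly_one]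
    simp

end aux

section forms

variable {F : Type u} [Field F] [Fintype F] [DecidableEq F] {ι : Type} [Fintype ι] [DecidableEq ι]

/-- The generic count for the isometry group of a quadratic form with non-degenerate polar
form. -/
theorem card_classes_O_of_form (hDual : PkgDual.{u}) (hConj : PkgConj.{u})
    (Q : QuadraticForm F (ι → F)) (hQ : (QuadraticMap.polarBilin Q).Nondegenerate)
    (Qf : (ι → F) → F) (hQf : ⇑Q = Qf)
    {S : Finset F[X]} {r b : ℕ} (hS : Factors S r b) (hr : r.Prime) (hr2 : r ≠ 2)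
    (hrF : (r : F) ≠ 0) (n : ℕ) (hn : Fintype.card ι = n)
    (dg : S → S) (hdg : ∀ π : S, (dg π : F[X]) = dual (RingHom.id F) π.1)
    (Adm : (S → ℕ) → Prop)
    (hex : ∀ a : S → ℕ, (∀ π, a (dg π) = a π) → b * ∑ π, a π ≤ n → Adm a →
      ∃ g : Matrix ι ι F, g ^ r = 1 ∧ (∀ v, Qf (g *ᵥ v) = Qf v) ∧
        g.charpoly = chi S a (n - b * ∑ π, a π))
    (hnec : ∀ g : Matrix ι ι F, (∀ v, Qf (g *ᵥ v) = Qf v) → g ^ r = 1 → ∀ a : S → ℕ,
      b * ∑ π, a π ≤ n → g.charpoly = chi S a (n - b * ∑ π, a π) → Adm a) :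
    Nat.card {C : ConjClasses ↥(Cfsg.isometryGroup F Qf) //
      ∃ g : ↥(Cfsg.isometryGroup F Qf), ConjClasses.mk g = C ∧ orderOf g = r} =
      Nat.card {a : S → ℕ // a ≠ 0 ∧ (∀ π, a (dg π) = a π) ∧ b * ∑ π, a π ≤ n ∧ Adm a} := by
  subst hQf
  exact card_classes_O_generic _ hS hr hrF n hn dg hdg Adm (fun g hg => hDual Q hQ g hg)
    (fun g h hg hh hgr hhr hc =>
      hConj Q hQ r (hr.odd_of_ne_two hr2) hrF g h hg hh hgr hhr hc) hex hnec

end forms

section final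

variable {F : Type u} [Field F] [Fintype F]

/-- S2674 from the packages. -/
theorem card_classes_plus (hDual : PkgDual.{u}) (hConj : PkgConj.{u}) (hFree : PkgFree.{u})
    (hArith : PkgArith) (hZP : PkgZerosPlus.{u}) (hExOdd : PkgExOddB.{u})
    (hExEven : ExEvenPlus.{u}) (hCount : PkgCountPlus.{u})
    {p q : ℕ} [Fact p.Prime] [CharP F p] (hF : Fintype.card F = q) (m r i t : ℕ) (hm : 1 ≤ m)
    (hr : r.Prime) (hr2 : r ≠ 2) (hrp : r ≠ p) (hi : i = orderOf (q : ZMod r))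
    (ht : t * i = r - 1) :
    Nat.card {C : ConjClasses ↥(Cfsg.isometryGroup F (Cfsg.quadFormPlus m F)) //
      ∃ g : ↥(Cfsg.isometryGroup F (Cfsg.quadFormPlus m F)), ConjClasses.mk g = C ∧
        orderOf g = r} =
      if Odd i then Nat.choose (m / i + t / 2) (t / 2) - 1
      else Nat.choose (2 * m / i + t) t - 1 -
        (if i ∣ 2 * m ∧ Odd (2 * m / i) then Nat.choose (2 * m / i + t - 1) (t - 1) else 0) := by
  classical
  subst hF
  obtain ⟨S, hS, hScard, hrF, hrq, hi0, ht0, dg, hdg, hdd, hcase, hoddS, hevenS⟩ :=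
    exists_setup (F := F) rfl r i t hr hr2 hrp hi ht
  have hcard : Fintype.card (Fin m ⊕ Fin m) = 2 * m := by
    rw [Fintype.card_sum, Fintype.card_fin]; omega
  rw [card_classes_O_of_form hDual hConj (plusQF m F) (plusQF_nondegenerate m F)
    (Cfsg.quadFormPlus m F) (plusQF_coe m F) hS hr hr2 hrF (2 * m) hcard dg hdg
    (fun a => Even i → i * ∑ π, a π = 2 * m → Even (∑ π, a π))]
  · have h1 := hCount ↥S dg hdd i m hi0 hm (by rw [Fintype.card_coe, hScard]; exact ht0) hcase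
    rw [Fintype.card_coe, hScard] at h1
    exact h1
  · intro a hinv hle hadm
    rcases hcase with ⟨ho, hne⟩ | ⟨he, hid⟩
    · exact hExOdd p S r i hS hr hrF dg hdg hne m a hinv hle
    · exact hExEven p S r i hS hr hr2 hrF hi he (hevenS he) m a hle (hadm he)
  · intro g hg hgr a hle hχ he hsum
    rw [hsum, Nat.sub_self] at hχ
    have hfix := no_fixed_of_chi hS a g hχ
    have h1 := hFree (Cfsg.quadFormPlus m F) g r hr hg hgr
    rw [card_fixed_eq_one (Cfsg.quadFormPlus m F) (by simp [Cfsg.quadFormPlus]) g hfix] at h1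
    have h2 := hArith (Fintype.card F) r i (∑ π, a π) m 0 hr hr2 hrq hi he (by omega) 1 1
      (Or.inl rfl) (Or.inl rfl) _ 1 (by rw [one_mul]; exact hZP (F := F) m) (by ring)
      (by exact_mod_cast h1)
    rw [one_mul] at h2
    exact (neg_one_pow_eq_one_iff_even (by norm_num : (-1 : ℤ) ≠ 1)).mp h2.symm

/-- S2675 from the packages (dimension `2 (m' + 1)`). -/
theorem card_classes_minus (hDual : PkgDual.{u}) (hConj : PkgConj.{u}) (hFree : PkgFree.{u})
    (hArith : PkgArith) (hZM : PkgZerosMinus.{u}) (hOddMinus : PkgOddMinus.{u})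
    (hExOdd : PkgExOddB.{u}) (hExEven : ExEvenMinus.{u}) (hCount : PkgCountMinus.{u})
    {p q : ℕ} [Fact p.Prime] [CharP F p] (hF : Fintype.card F = q) (m' r i t : ℕ)
    (a c : F) (hac : Aniso a c)
    (hr : r.Prime) (hr2 : r ≠ 2) (hrp : r ≠ p) (hi : i = orderOf (q : ZMod r))
    (ht : t * i = r - 1) :
    Nat.card {C : ConjClasses ↥(Cfsg.isometryGroup F (Cfsg.quadFormMinus m' F a c)) //
      ∃ g : ↥(Cfsg.isometryGroup F (Cfsg.quadFormMinus m' F a c)), ConjClasses.mk g = C ∧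
        orderOf g = r} =
      if Odd i then Nat.choose ((m' + 1) / i + t / 2) (t / 2) - 1 -
        (if i ∣ (m' + 1) then Nat.choose ((m' + 1) / i + t / 2 - 1) (t / 2 - 1) else 0)
      else Nat.choose (2 * (m' + 1) / i + t) t - 1 -
        (if i ∣ 2 * (m' + 1) ∧ Even (2 * (m' + 1) / i) then
          Nat.choose (2 * (m' + 1) / i + t - 1) (t - 1) else 0) := by
  classical
  subst hF
  obtain ⟨S, hS, hScard, hrF, hrq, hi0, ht0, dg, hdg, hdd, hcase, hoddS, hevenS⟩ :=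
    exists_setup (F := F) rfl r i t hr hr2 hrp hi ht
  have hcard : Fintype.card ((Fin m' ⊕ Fin m') ⊕ Fin 2) = 2 * (m' + 1) := by
    simp only [Fintype.card_sum, Fintype.card_fin]; omega
  rw [card_classes_O_of_form hDual hConj (minusQF m' F a c)
    (Cfsg.Agent.Lib.Helper44.minusQF_nondegenerate_all m' F a c hac)
    (Cfsg.quadFormMinus m' F a c) (minusQF_coe m' F a c) hS hr hr2 hrF (2 * (m' + 1)) hcard dg hdg
    (fun a => i * ∑ π, a π = 2 * (m' + 1) → Even i ∧ Odd (∑ π, a π))]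
  · have h1 := hCount ↥S dg hdd i (m' + 1) hi0 (by omega)
      (by rw [Fintype.card_coe, hScard]; exact ht0) hcase
    rw [Fintype.card_coe, hScard] at h1
    exact h1
  · intro a' hinv hle hadm
    rcases hcase with ⟨ho, hne⟩ | ⟨he, hid⟩
    · have hev : Even (i * ∑ π, a' π) := (even_sum_of_invol dg hdd hne a' hinv).mul_left i
      have hne2 : i * ∑ π, a' π ≠ 2 * (m' + 1) := fun h =>
        (Nat.not_even_iff_odd.mpr ho) (hadm h).1
      have hle' : i * ∑ π, a' π ≤ 2 * m' := by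
        obtain ⟨w, hw⟩ := hev
        omega
      obtain ⟨g₁, hg₁r, hg₁Q, hg₁c⟩ := hExOdd p S r i hS hr hrF dg hdg hne m' a' hinv hle'
      obtain ⟨g, hgr, hgQ, hgc⟩ := minus_ext m' a c g₁ r hg₁r hg₁Q
      refine ⟨g, hgr, hgQ, ?_⟩
      rw [hgc, hg₁c, chi_mul_pow]
      congr 1
      omega
    · obtain ⟨g, hgr, hgQ, hgc⟩ := hExEven p S r i hS hr hr2 hrF hi he (hevenS he) m' a c hac a'
        (by omega) (fun h => (hadm (by omega)).2)
      refine ⟨g, hgr, hgQ, ?_⟩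
      rw [hgc]
      congr 1
  · intro g hg hgr a' hle hχ hsum
    rw [hsum, Nat.sub_self] at hχ
    have hfix := no_fixed_of_chi hS a' g hχ
    rcases hcase with ⟨ho, hne⟩ | ⟨he, hid⟩
    · obtain ⟨v, hv0, hv⟩ := hOddMinus S r i hS hr hrF (hoddS ho) m' a c hac g hg hgr
      exact absurd (hfix v hv) hv0
    · refine ⟨he, ?_⟩
      have h1 := hFree (Cfsg.quadFormMinus m' F a c) g r hr hg hgr
      rw [card_fixed_eq_one (Cfsg.quadFormMinus m' F a c) (by simp [Cfsg.quadFormMinus]) g hfix]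
        at h1
      have h2 := hArith (Fintype.card F) r i (∑ π, a' π) (m' + 1) 0 hr hr2 hrq hi he (by omega)
        (-1) 1 (Or.inr rfl) (Or.inl rfl) _ 1
        (by rw [hZM (F := F) a c hac m']; ring) (by ring) (by exact_mod_cast h1)
      rw [one_mul] at h2
      exact (neg_one_pow_eq_neg_one_iff_odd (by norm_num : (-1 : ℤ) ≠ 1)).mp h2.symm

/-- S2673 from the packages. -/
theorem card_classes_odd (hDual : PkgDual.{u}) (hConj : PkgConj.{u}) (hExOdd : PkgExOddB.{u})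
    (hExEven : ExEvenOdd.{u}) (hCount : PkgCountOdd.{u})
    {p q : ℕ} [Fact p.Prime] [CharP F p] (hF : Fintype.card F = q) (hq : Odd q) (m r i t : ℕ)
    (hr : r.Prime) (hr2 : r ≠ 2) (hrp : r ≠ p) (hi : i = orderOf (q : ZMod r))
    (ht : t * i = r - 1) :
    Nat.card {C : ConjClasses ↥(Cfsg.isometryGroup F (Cfsg.quadFormOdd m F)) //
      ∃ g : ↥(Cfsg.isometryGroup F (Cfsg.quadFormOdd m F)), ConjClasses.mk g = C ∧
        orderOf g = r} =
      if Odd i then Nat.choose (m / i + t / 2) (t / 2) - 1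
      else Nat.choose ((2 * m + 1) / i + t) t - 1 := by
  classical
  subst hF
  obtain ⟨S, hS, hScard, hrF, hrq, hi0, ht0, dg, hdg, hdd, hcase, hoddS, hevenS⟩ :=
    exists_setup (F := F) rfl r i t hr hr2 hrp hi ht
  have h2 : (2 : F) ≠ 0 := by
    intro h
    have h3 : ((2 : ℕ) : F) = 0 := by exact_mod_cast h
    have h4 := (CharP.cast_eq_zero_iff F p 2).mp h3
    have hp2 : p = 2 := (Nat.prime_dvd_prime_iff_eq Fact.out Nat.prime_two).mp h4
    obtain ⟨f, -, hf⟩ := FiniteField.card F p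
    rw [hf, hp2] at hq
    rcases Nat.eq_zero_or_pos (f : ℕ) with h0 | h0
    · exact f.ne_zero h0
    · exact (Nat.not_even_iff_odd.mpr hq) ((Nat.even_pow' h0.ne').mpr even_two)
  have hcard : Fintype.card (Unit ⊕ (Fin m ⊕ Fin m)) = 2 * m + 1 := by
    simp only [Fintype.card_sum, Fintype.card_fin, Fintype.card_unit]; omega
  rw [card_classes_O_of_form hDual hConj (oddQF m F) (oddQF_nondegenerate m F h2)
    (Cfsg.quadFormOdd m F) (oddQF_coe m F) hS hr hr2 hrF (2 * m + 1) hcard dg hdg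
    (fun _ => True)]
  · have h1 := hCount ↥S dg hdd i m hi0 (by rw [Fintype.card_coe, hScard]; exact ht0) hcase
    rw [Fintype.card_coe, hScard] at h1
    rw [← h1]
    exact Nat.card_congr (Equiv.subtypeEquivRight (fun a => by simp))
  · intro a' hinv hle _
    rcases hcase with ⟨ho, hne⟩ | ⟨he, hid⟩
    · have hev : Even (i * ∑ π, a' π) := (even_sum_of_invol dg hdd hne a' hinv).mul_left i
      have hle' : i * ∑ π, a' π ≤ 2 * m := by
        obtain ⟨w, hw⟩ := hev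
        omega
      obtain ⟨g₁, hg₁r, hg₁Q, hg₁c⟩ := hExOdd p S r i hS hr hrF dg hdg hne m a' hinv hle'
      obtain ⟨g, hgr, hgQ, hgc⟩ := odd_ext m g₁ r hg₁r hg₁Q
      refine ⟨g, hgr, hgQ, ?_⟩
      rw [hgc, hg₁c, pow_mul_chi]
      congr 1
      omega
    · exact hExEven p h2 S r i hS hr hr2 hrF (hevenS he) m a' hle
  · intro g hg hgr a' hle hχ
    trivial

end final

end Cfsg.Agent.Lib.Helper14.OCls
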