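import Mathlib
import Cfsg.Agent.Lib.Helper14.OCls.Defs
import Cfsg.Agent.Lib.Helper14.Forms
import Cfsg.Agent.Lib.Helper44.Char2Forms

/-!
# Existence of elements with prescribed characteristic polynomial, all factors self-dual

`pkgExEvenPlus`, `pkgExEvenMinus`, `pkgExEvenOdd`: packages [EXEVENPLUS], [EXEVENMINUS],
[EXEVENODD] of the OCLS project.
-/

set_option autoImplicit false

namespace Cfsg.Agent.Lib.Helper14.OCls

open Matrix Polynomial Cfsg.Agent.Lib.Helper40.PrimeOrderGL Cfsg.Agent.Lib.Helper40.DualPoly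
  Cfsg.Agent.Lib.Helper14

universe u

section std

variable {F : Type u} [Field F] [Fintype F]

theorem card_zeros_congr {V W : Type*} [AddCommGroup V] [Module F V] [AddCommGroup W]
    [Module F W] (Q' : V → F) (Qs : W → F) (φ : V ≃ₗ[F] W) (h : ∀ v, Qs (φ v) = Q' v) :
    Nat.card {v : V // Q' v = 0} = Nat.card {w : W // Qs w = 0} :=
  Nat.card_congr (φ.toEquiv.subtypeEquiv (fun v => by
    show Q' v = 0 ↔ Qs (φ v) = 0
    rw [h]))

theorem not_dvd_card (p : ℕ) [Fact p.Prime] [CharP F p] (r : ℕ) (hr : r.Prime)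
    (hrF : (r : F) ≠ 0) : ¬ r ∣ Fintype.card F := by
  have hp : p.Prime := Fact.out
  obtain ⟨f, -, hf⟩ := FiniteField.card F p
  rw [hf]
  intro h
  have h1 : r = p := (Nat.prime_dvd_prime_iff_eq hr hp).1 (hr.dvd_of_dvd_pow h)
  rw [h1] at hrF
  exact hrF (CharP.cast_eq_zero F p)

/-- A standard form of dimension `2k'` with prescribed type. -/
theorem exists_std_form (hZP : PkgZerosPlus.{u}) (hZM : PkgZerosMinus.{u}) (c d : F)
    (hcd : Aniso c d) (k' : ℕ) (e' : ℤ) (he' : e' = 1 ∨ (e' = -1 ∧ 1 ≤ k')) :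
    ∃ (κ : Type) (_ : Fintype κ) (_ : DecidableEq κ) (Q₂ : QuadraticForm F (κ → F)),
      (QuadraticMap.polarBilin Q₂).Nondegenerate ∧ Fintype.card κ = 2 * k' ∧
      (Fintype.card F : ℤ) * (Nat.card {w : κ → F // Q₂ w = 0} : ℤ) =
        (Fintype.card F : ℤ) ^ (2 * k') +
          e' * ((Fintype.card F : ℤ) ^ (k' + 1) - (Fintype.card F : ℤ) ^ k') := by
  rcases he' with rfl | ⟨rfl, hk⟩
  · refine ⟨Fin k' ⊕ Fin k', inferInstance, inferInstance, plusQF k' F,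
      plusQF_nondegenerate k' F, ?_, ?_⟩
    · rw [Fintype.card_sum, Fintype.card_fin]; omega
    · have h1 : Nat.card {w : Fin k' ⊕ Fin k' → F // (plusQF k' F) w = 0} =
          Nat.card {w : Fin k' ⊕ Fin k' → F // Cfsg.quadFormPlus k' F w = 0} :=
        Nat.card_congr (Equiv.subtypeEquivRight (fun w => by rw [plusQF_coe]))
      rw [h1, hZP (F := F) k', one_mul]
  · obtain ⟨k'', rfl⟩ : ∃ k'', k' = k'' + 1 := ⟨k' - 1, by omega⟩
    refine ⟨(Fin k'' ⊕ Fin k'') ⊕ Fin 2, inferInstance, inferInstance, minusQF k'' F c d,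
      Cfsg.Agent.Lib.Helper44.minusQF_nondegenerate_all k'' F c d hcd, ?_, ?_⟩
    · simp only [Fintype.card_sum, Fintype.card_fin]; omega
    · have h1 : Nat.card {w : (Fin k'' ⊕ Fin k'') ⊕ Fin 2 → F // (minusQF k'' F c d) w = 0} =
          Nat.card {w : (Fin k'' ⊕ Fin k'') ⊕ Fin 2 → F //
            Cfsg.quadFormMinus k'' F c d w = 0} :=
        Nat.card_congr (Equiv.subtypeEquivRight (fun w => by rw [minusQF_coe]))
      rw [h1, hZM (F := F) c d hcd k'']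
      ring

end std

section typed

variable {F : Type u} [Field F] [Fintype F] [DecidableEq F]

/-- The core of the existence proof: the type of the invariant form is forced. -/
theorem ex_even_typed (hCore : ExCore.{u}) (hClass : ClassEven.{u}) (hTr : PkgTransport.{u})
    (hFree : PkgFree.{u}) (hArith : PkgArith) (hZP : PkgZerosPlus.{u}) (hZM : PkgZerosMinus.{u})
    (p : ℕ) [Fact p.Prime] [CharP F p]
    (S : Finset F[X]) (r b : ℕ) (hS : Factors S r b) (hr : r.Prime) (hr2 : r ≠ 2)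
    (hrF : (r : F) ≠ 0) (hb : b = orderOf ((Fintype.card F : ℕ) : ZMod r)) (hbe : Even b)
    (hself : ∀ π ∈ S, dual (RingHom.id F) π = π) (a : S → ℕ) (c d : F) (hcd : Aniso c d)
    (M k' : ℕ) (hM : 2 * M = 2 * k' + b * ∑ π, a π)
    (e' : ℤ) (he' : e' = 1 ∨ (e' = -1 ∧ 1 ≤ k')) :
    (e' * (-1) ^ (∑ π, a π) = 1 →
      ∃ g : Matrix (Fin M ⊕ Fin M) (Fin M ⊕ Fin M) F, g ^ r = 1 ∧
        (∀ v, Cfsg.quadFormPlus M F (g *ᵥ v) = Cfsg.quadFormPlus M F v) ∧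
        g.charpoly = chi S a (2 * k')) ∧
    (e' * (-1) ^ (∑ π, a π) = -1 →
      ∃ m' : ℕ, M = m' + 1 ∧
        ∃ g : Matrix ((Fin m' ⊕ Fin m') ⊕ Fin 2) ((Fin m' ⊕ Fin m') ⊕ Fin 2) F, g ^ r = 1 ∧
          (∀ v, Cfsg.quadFormMinus m' F c d (g *ᵥ v) = Cfsg.quadFormMinus m' F c d v) ∧
          g.charpoly = chi S a (2 * k')) := by
  have hrq := not_dvd_card p r hr hrF
  obtain ⟨κ, _, _, Q₂, hQ₂, hκ, hZ'⟩ := exists_std_form hZP hZM c d hcd k' e' he'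
  obtain ⟨Q', Mx, hQ', hMr, hMinv, hMc, hfix⟩ := hCore p S r b hS hr hr2 hrF hself a Q₂ hQ₂
  rw [hκ] at hMc
  have hdim : Module.finrank F (Fin (b * ∑ π, a π) ⊕ κ → F) = 2 * M := by
    rw [Module.finrank_fintype_fun_eq_card, Fintype.card_sum, Fintype.card_fin, hκ]
    omega
  have he'' : e' = 1 ∨ e' = -1 := he'.imp id (fun h => h.1)
  have hcong := hFree (⇑Q') Mx r hr hMinv hMr
  rw [hfix] at hcong
  rcases hClass Q' hQ' M hdim c d hcd with ⟨φ, hφ⟩ | ⟨m', hm', φ, hφ⟩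
  · -- plus type
    have hZ : (Fintype.card F : ℤ) *
        (Nat.card {v : Fin (b * ∑ π, a π) ⊕ κ → F // Q' v = 0} : ℤ) =
        (Fintype.card F : ℤ) ^ (2 * M) +
          1 * ((Fintype.card F : ℤ) ^ (M + 1) - (Fintype.card F : ℤ) ^ M) := by
      rw [card_zeros_congr (⇑Q') (Cfsg.quadFormPlus M F) φ hφ, hZP (F := F) M, one_mul]
    have h1 := hArith (Fintype.card F) r b (∑ π, a π) M k' hr hr2 hrq hb hbe hM 1 e'
      (Or.inl rfl) he'' _ _ hZ hZ' hcong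
    constructor
    · intro _
      obtain ⟨g, hgr, hgQ, hgc⟩ := hTr (⇑Q') (Cfsg.quadFormPlus M F) 1 φ
        (fun v => by rw [hφ, one_mul]) Mx r hMr hMinv
      exact ⟨g, hgr, hgQ, by rw [hgc, hMc]⟩
    · intro h2
      rw [← h1] at h2
      norm_num at h2
  · -- minus type
    subst hm'
    have hZ : (Fintype.card F : ℤ) *
        (Nat.card {v : Fin (b * ∑ π, a π) ⊕ κ → F // Q' v = 0} : ℤ) =
        (Fintype.card F : ℤ) ^ (2 * (m' + 1)) +
          (-1) * ((Fintype.card F : ℤ) ^ (m' + 1 + 1) - (Fintype.card F : ℤ) ^ (m' + 1)) := by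
      rw [card_zeros_congr (⇑Q') (Cfsg.quadFormMinus m' F c d) φ hφ, hZM (F := F) c d hcd m']
      ring
    have h1 := hArith (Fintype.card F) r b (∑ π, a π) (m' + 1) k' hr hr2 hrq hb hbe hM (-1) e'
      (Or.inr rfl) he'' _ _ hZ hZ' hcong
    constructor
    · intro h2
      rw [← h1] at h2
      norm_num at h2
    · intro _
      obtain ⟨g, hgr, hgQ, hgc⟩ := hTr (⇑Q') (Cfsg.quadFormMinus m' F c d) 1 φ
        (fun v => by rw [hφ, one_mul]) Mx r hMr hMinv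
      exact ⟨m', rfl, g, hgr, hgQ, by rw [hgc, hMc]⟩

end typed

/-- Package [EXEVENPLUS]. -/
theorem pkgExEvenPlus : PkgExEvenPlus.{u} := by
  intro hCore hClass hTr hFree hArith hZP hZM hAniso F _ _ _ p _ _ S r b hS hr hr2 hrF hb hbe
    hself m a hle hadm
  obtain ⟨c, d, hcd⟩ := hAniso (F := F)
  obtain ⟨b', hb'⟩ := hbe
  obtain ⟨k', hk'⟩ : ∃ k', 2 * m = 2 * k' + b * ∑ π, a π :=
    ⟨m - b' * ∑ π, a π, by rw [hb', add_mul] at hle ⊢; omega⟩
  have hpar : ((-1 : ℤ) ^ (∑ π, a π) = 1 ∧ Even (∑ π, a π)) ∨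
      ((-1 : ℤ) ^ (∑ π, a π) = -1 ∧ Odd (∑ π, a π)) := by
    rcases Nat.even_or_odd (∑ π, a π) with h | h
    · exact Or.inl ⟨h.neg_one_pow, h⟩
    · exact Or.inr ⟨h.neg_one_pow, h⟩
  have he' : (-1 : ℤ) ^ (∑ π, a π) = 1 ∨ ((-1 : ℤ) ^ (∑ π, a π) = -1 ∧ 1 ≤ k') := by
    rcases hpar with ⟨h1, -⟩ | ⟨h1, h2⟩
    · exact Or.inl h1
    · refine Or.inr ⟨h1, ?_⟩
      by_contra hk
      have h3 : b * ∑ π, a π = 2 * m := by omega
      exact (Nat.not_even_iff_odd.mpr h2) (hadm h3)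
  have hmain := (ex_even_typed hCore hClass hTr hFree hArith hZP hZM p S r b hS hr hr2 hrF hb
    ⟨b', hb'⟩ hself a c d hcd m k' hk' _ he').1
  obtain ⟨g, hgr, hgQ, hgc⟩ := hmain (by
    rcases hpar with ⟨h1, -⟩ | ⟨h1, -⟩ <;> rw [h1] <;> norm_num)
  refine ⟨g, hgr, hgQ, ?_⟩
  rw [hgc]
  congr 1
  omega

/-- Package [EXEVENMINUS]. -/
theorem pkgExEvenMinus : PkgExEvenMinus.{u} := by
  intro hCore hClass hTr hFree hArith hZP hZM F _ _ _ p _ _ S r b hS hr hr2 hrF hb hbe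
    hself m c d hcd a hle hadm
  obtain ⟨b', hb'⟩ := hbe
  obtain ⟨k', hk'⟩ : ∃ k', 2 * (m + 1) = 2 * k' + b * ∑ π, a π :=
    ⟨m + 1 - b' * ∑ π, a π, by rw [hb', add_mul] at hle ⊢; omega⟩
  have hpar : ((-1 : ℤ) ^ (∑ π, a π) = 1 ∧ Even (∑ π, a π)) ∨
      ((-1 : ℤ) ^ (∑ π, a π) = -1 ∧ Odd (∑ π, a π)) := by
    rcases Nat.even_or_odd (∑ π, a π) with h | h
    · exact Or.inl ⟨h.neg_one_pow, h⟩
    · exact Or.inr ⟨h.neg_one_pow, h⟩
  have he' : -(-1 : ℤ) ^ (∑ π, a π) = 1 ∨ (-(-1 : ℤ) ^ (∑ π, a π) = -1 ∧ 1 ≤ k') := by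
    rcases hpar with ⟨h1, h2⟩ | ⟨h1, -⟩
    · refine Or.inr ⟨by rw [h1], ?_⟩
      by_contra hk
      have h3 : b * ∑ π, a π = 2 * m + 2 := by omega
      exact (Nat.not_odd_iff_even.mpr h2) (hadm h3)
    · exact Or.inl (by rw [h1]; norm_num)
  have hmain := (ex_even_typed hCore hClass hTr hFree hArith hZP hZM p S r b hS hr hr2 hrF hb
    ⟨b', hb'⟩ hself a c d hcd (m + 1) k' hk' _ he').2
  obtain ⟨m', hm', g, hgr, hgQ, hgc⟩ := hmain (by
    rcases hpar with ⟨h1, -⟩ | ⟨h1, -⟩ <;> rw [h1] <;> norm_num)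
  have hmm : m' = m := by omega
  subst hmm
  refine ⟨g, hgr, hgQ, ?_⟩
  rw [hgc]
  congr 1
  omega

/-- Package [EXEVENODD]. -/
theorem pkgExEvenOdd : PkgExEvenOdd.{u} := by
  intro hCore hClass hTr F _ _ _ p _ _ h2 S r b hS hr hr2 hrF hself m a hle
  rcases Nat.even_or_odd' (2 * m + 1 - b * ∑ π, a π) with ⟨k', hk' | hk'⟩
  · obtain ⟨Q', Mx, hQ', hMr, hMinv, hMc, -⟩ := hCore p S r b hS hr hr2 hrF hself a
      (plusQF k' F) (plusQF_nondegenerate k' F)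
    have hκ : Fintype.card (Fin k' ⊕ Fin k') = 2 * k' := by
      rw [Fintype.card_sum, Fintype.card_fin]; omega
    rw [hκ] at hMc
    have hdim : Module.finrank F (Fin (b * ∑ π, a π) ⊕ (Fin k' ⊕ Fin k') → F) = 2 * m + 1 := by
      rw [Module.finrank_fintype_fun_eq_card, Fintype.card_sum, Fintype.card_fin, hκ]
      omega
    obtain ⟨c, φ, -, hφ⟩ := hClass h2 Q' hQ' m hdim
    obtain ⟨g, hgr, hgQ, hgc⟩ := hTr (⇑Q') (Cfsg.quadFormOdd m F) c φ hφ Mx r hMr hMinv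
    exact ⟨g, hgr, hgQ, by rw [hgc, hMc, hk']⟩
  · obtain ⟨Q', Mx, hQ', hMr, hMinv, hMc, -⟩ := hCore p S r b hS hr hr2 hrF hself a
      (oddQF k' F) (oddQF_nondegenerate k' F h2)
    have hκ : Fintype.card (Unit ⊕ (Fin k' ⊕ Fin k')) = 2 * k' + 1 := by
      simp only [Fintype.card_sum, Fintype.card_fin, Fintype.card_unit]; omega
    rw [hκ] at hMc
    have hdim : Module.finrank F (Fin (b * ∑ π, a π) ⊕ (Unit ⊕ (Fin k' ⊕ Fin k')) → F) =
        2 * m + 1 := by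
      rw [Module.finrank_fintype_fun_eq_card, Fintype.card_sum, Fintype.card_fin, hκ]
      omega
    obtain ⟨c, φ, -, hφ⟩ := hClass h2 Q' hQ' m hdim
    obtain ⟨g, hgr, hgQ, hgc⟩ := hTr (⇑Q') (Cfsg.quadFormOdd m F) c φ hφ Mx r hMr hMinv
    exact ⟨g, hgr, hgQ, by rw [hgc, hMc, hk']⟩

end Cfsg.Agent.Lib.Helper14.OCls
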