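import Mathlib
import Cfsg.Agent.Lib.Helper14.OCls.Asm
import Cfsg.Agent.Lib.Helper14.OCls.ExEven
import Cfsg.Agent.Lib.Helper4.OCls.Zeros
import Cfsg.Agent.Lib.Helper61.OCls.Dual
import Cfsg.Agent.Lib.Helper61.OCls.Transport
import Cfsg.Agent.Lib.Helper61.OCls.Conj
import Cfsg.Agent.Lib.Helper76.OCls.Split
import Cfsg.Agent.Lib.Helper76.OCls.ClassEven
import Cfsg.Agent.Lib.Helper76.OCls.ClassOdd
import Cfsg.Agent.Lib.Helper79.OCls.InvForm
import Cfsg.Agent.Lib.Helper79.OCls.ExCore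
import Cfsg.Agent.Lib.Helper8.OCls.AnisoUnique
import Cfsg.Agent.Lib.Helper85.OCls.Aniso
import Cfsg.Agent.Lib.Helper85.OCls.Arith
import Cfsg.Agent.Lib.Helper85.OCls.Free
import Cfsg.Agent.Lib.Helper85.OCls.Sing
import Cfsg.Agent.Lib.Helper27.OCls.ExOddB
import Cfsg.Agent.Lib.Helper60.OCls.Count

/-!
# Class counts of elements of odd prime order in the orthogonal groups: final statements

All packages of the OCLS project put together: `s2673`, `s2674` (`s2675` is in `FinalMinus`).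
-/

set_option autoImplicit false

namespace Cfsg.Agent.Lib.Helper14.OCls

universe u

theorem classEven : ClassEven.{u} :=
  Cfsg.Agent.Lib.Helper76.OCls.pkgClassEven Cfsg.Agent.Lib.Helper85.OCls.pkgSing
    Cfsg.Agent.Lib.Helper76.OCls.pkgSplit Cfsg.Agent.Lib.Helper8.OCls.pkgAnisoUnique

theorem classOdd : ClassOdd.{u} :=
  Cfsg.Agent.Lib.Helper76.OCls.pkgClassOdd Cfsg.Agent.Lib.Helper85.OCls.pkgSing
    Cfsg.Agent.Lib.Helper76.OCls.pkgSplit

theorem exCore : ExCore.{u} :=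
  Cfsg.Agent.Lib.Helper79.OCls.pkgExCore Cfsg.Agent.Lib.Helper79.OCls.pkgInvForm

theorem exEvenPlus : ExEvenPlus.{u} :=
  pkgExEvenPlus exCore classEven Cfsg.Agent.Lib.Helper61.OCls.pkgTransport
    Cfsg.Agent.Lib.Helper85.OCls.pkgFree Cfsg.Agent.Lib.Helper85.OCls.pkgArith
    Cfsg.Agent.Lib.Helper4.OCls.pkgZerosPlus Cfsg.Agent.Lib.Helper4.OCls.pkgZerosMinus
    Cfsg.Agent.Lib.Helper85.OCls.pkgAniso

theorem exEvenMinus : ExEvenMinus.{u} :=
  pkgExEvenMinus exCore classEven Cfsg.Agent.Lib.Helper61.OCls.pkgTransport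
    Cfsg.Agent.Lib.Helper85.OCls.pkgFree Cfsg.Agent.Lib.Helper85.OCls.pkgArith
    Cfsg.Agent.Lib.Helper4.OCls.pkgZerosPlus Cfsg.Agent.Lib.Helper4.OCls.pkgZerosMinus

theorem exEvenOdd : ExEvenOdd.{u} :=
  pkgExEvenOdd exCore classOdd Cfsg.Agent.Lib.Helper61.OCls.pkgTransport

/-- S2673. -/
theorem s2673 {F : Type u} [Field F] [Fintype F] {p q : ℕ} [Fact p.Prime] [CharP F p]
    (hF : Fintype.card F = q) (hq : Odd q) (m r i t : ℕ) (hr : r.Prime) (hr2 : r ≠ 2)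
    (hrp : r ≠ p) (hi : i = orderOf (q : ZMod r)) (ht : t * i = r - 1) :
    Nat.card {C : ConjClasses ↥(Cfsg.isometryGroup F (Cfsg.quadFormOdd m F)) //
      ∃ g : ↥(Cfsg.isometryGroup F (Cfsg.quadFormOdd m F)), ConjClasses.mk g = C ∧
        orderOf g = r} =
      if Odd i then Nat.choose (m / i + t / 2) (t / 2) - 1
      else Nat.choose ((2 * m + 1) / i + t) t - 1 :=
  card_classes_odd Cfsg.Agent.Lib.Helper61.OCls.pkgDual Cfsg.Agent.Lib.Helper61.OCls.pkgConj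
    Cfsg.Agent.Lib.Helper27.OCls.pkgExOddB exEvenOdd Cfsg.Agent.Lib.Helper60.OCls.pkgCountOdd
    hF hq m r i t hr hr2 hrp hi ht

/-- S2674. -/
theorem s2674 {F : Type u} [Field F] [Fintype F] {p q : ℕ} [Fact p.Prime] [CharP F p]
    (hF : Fintype.card F = q) (m r i t : ℕ) (hm : 1 ≤ m) (hr : r.Prime) (hr2 : r ≠ 2)
    (hrp : r ≠ p) (hi : i = orderOf (q : ZMod r)) (ht : t * i = r - 1) :
    Nat.card {C : ConjClasses ↥(Cfsg.isometryGroup F (Cfsg.quadFormPlus m F)) //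
      ∃ g : ↥(Cfsg.isometryGroup F (Cfsg.quadFormPlus m F)), ConjClasses.mk g = C ∧
        orderOf g = r} =
      if Odd i then Nat.choose (m / i + t / 2) (t / 2) - 1
      else Nat.choose (2 * m / i + t) t - 1 -
        (if i ∣ 2 * m ∧ Odd (2 * m / i) then Nat.choose (2 * m / i + t - 1) (t - 1) else 0) :=
  card_classes_plus Cfsg.Agent.Lib.Helper61.OCls.pkgDual Cfsg.Agent.Lib.Helper61.OCls.pkgConj
    Cfsg.Agent.Lib.Helper85.OCls.pkgFree Cfsg.Agent.Lib.Helper85.OCls.pkgArith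
    Cfsg.Agent.Lib.Helper4.OCls.pkgZerosPlus Cfsg.Agent.Lib.Helper27.OCls.pkgExOddB exEvenPlus
    Cfsg.Agent.Lib.Helper60.OCls.pkgCountPlus hF m r i t hm hr hr2 hrp hi ht

end Cfsg.Agent.Lib.Helper14.OCls
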